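import Mathlib

/-!
# A redundant Sylow `p`-subgroup of `GL(p, F)` when `p ∥ |F| - 1`
-/

set_option autoImplicit false
set_option maxHeartbeats 1000000

namespace Cfsg.Agent.Redundant

open Matrix Pointwise

variable {F : Type*} [Field F] {p : ℕ} [Fact p.Prime]

local notation "ι" => Fin p

/-- The monomial matrix with entries `d` along the shifted diagonal `i`. -/
noncomputable def mono (d : Fin p → F) (i : Fin p) : Matrix (Fin p) (Fin p) F :=
  Matrix.of fun k l => if l = k + i then d k else 0

theorem mono_apply (d : ι → F) (i k l : ι) : mono d i k l = if l = k + i then d k else 0 := rfl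

theorem mono_apply_self (d : ι → F) (i k : ι) : mono d i k (k + i) = d k := by simp [mono_apply]

theorem mono_mul (d e : ι → F) (i j : ι) :
    mono d i * mono e j = mono (fun k => d k * e (k + i)) (i + j) := by
  have : NeZero p := ⟨(Fact.out : p.Prime).ne_zero⟩
  ext k l
  rw [Matrix.mul_apply, Finset.sum_eq_single (k + i) (fun m _ hm => by simp [mono_apply, hm])
    (fun h => absurd (Finset.mem_univ _) h)]
  simp only [mono_apply, if_true, mul_ite, mul_zero, add_assoc]

theorem mono_one [NeZero p] : mono (F := F) (fun _ : Fin p => 1) 0 = 1 := by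
  have : NeZero p := ⟨(Fact.out : p.Prime).ne_zero⟩
  ext k l
  by_cases h : k = l
  · subst h; simp [mono_apply]
  · simp [mono_apply, Ne.symm h, h]

theorem mono_eq {d e : ι → F} {i j : ι} (hd : ∀ k, d k ≠ 0) (h : mono d i = mono e j) :
    i = j ∧ d = e := by
  have : NeZero p := ⟨(Fact.out : p.Prime).ne_zero⟩
  have hij : i = j := by
    by_contra hne
    have h1 := congrFun (congrFun h 0) (0 + i)
    rw [mono_apply_self, mono_apply, if_neg (by simpa using hne)] at h1
    exact hd 0 h1
  subst hij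
  exact ⟨rfl, funext fun k => by rw [← mono_apply_self d i k, h, mono_apply_self]⟩

theorem gen_top [NeZero p] {i : Fin p} (hi : i ≠ 0) (k : Fin p) :
    ∃ m : ℕ, m • i = k := by
  have : NeZero p := ⟨(Fact.out : p.Prime).ne_zero⟩
  have h1 : AddSubgroup.zmultiples i = ⊤ :=
    zmultiples_eq_top_of_prime_card (p := p) (Nat.card_fin p) hi
  exact mem_multiples_iff_mem_zmultiples.2 (h1 ▸ AddSubgroup.mem_top k)

/-- A diagonal matrix commuting with a monomial matrix of nonzero shift is scalar. -/
theorem const_of_commute {d e : ι → F} {i z : ι} (hz : ∀ k, k + z = k) (hi : i ≠ z) (he : ∀ k, e k ≠ 0)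
    (h : mono d z * mono e i = mono e i * mono d z) (k l : ι) : d k = d l := by
  have : NeZero p := ⟨(Fact.out : p.Prime).ne_zero⟩
  have hz0 : z = 0 := by simpa using hz 0
  subst hz0
  rw [mono_mul, mono_mul, zero_add, add_zero] at h
  have hstep : ∀ m : ι, d m = d (m + i) := by
    intro m
    have h1 := congrFun (congrFun h m) (m + i)
    rw [mono_apply_self, mono_apply_self, add_zero, mul_comm] at h1
    exact mul_left_cancel₀ (he m) h1
  obtain ⟨t, ht⟩ := gen_top hi (l - k)
  have hall : ∀ t : ℕ, d k = d (k + t • i) := by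
    intro t
    induction t with
    | zero => simp
    | succ t ih => rw [ih, hstep, succ_nsmul, add_assoc]
  rw [hall t, ht, add_sub_cancel]

variable [Fintype F]

theorem padic_card (hp : p ≠ 2) (h1 : p ∣ Fintype.card F - 1) (h2 : ¬ p ^ 2 ∣ Fintype.card F - 1) :
    (Nat.card (GL (Fin p) F)).factorization p = p + 1 := by
  have hpr : p.Prime := Fact.out
  set q := Fintype.card F
  have hq : 2 ≤ q := Fintype.one_lt_card
  have hpq : ¬ p ∣ q := fun h => by
    have := (Nat.dvd_add_iff_right h1).2 (show p ∣ q - 1 + 1 by rwa [Nat.sub_add_cancel (by omega)])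
    exact hpr.not_dvd_one this
  have hv : padicValNat p (q - 1) = 1 := by
    refine le_antisymm ?_ (one_le_padicValNat_of_dvd (by omega) h1)
    by_contra h
    exact h2 ((padicValNat_dvd_iff_le (by omega)).2 (by omega))
  have hfac : ∀ i : Fin p, (q ^ p - q ^ (i : ℕ)).factorization p =
      1 + padicValNat p (p - (i : ℕ)) := by
    intro i
    have h3 : q ^ p - q ^ (i : ℕ) = q ^ (i : ℕ) * (q ^ (p - (i : ℕ)) - 1) := by
      rw [Nat.mul_sub, mul_one, ← pow_add, Nat.add_sub_cancel' i.2.le]
    have hne : q ^ (p - (i : ℕ)) - 1 ≠ 0 :=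
      Nat.sub_ne_zero_of_lt (Nat.one_lt_pow (by omega) hq)
    have h5 := padicValNat.pow_sub_pow (y := 1) (hpr.odd_of_ne_two hp) (by omega : 1 < q) h1 hpq
      (n := p - (i : ℕ)) (by omega)
    rw [one_pow, hv] at h5
    rw [h3, Nat.factorization_mul (pow_ne_zero _ (by omega)) hne, Finsupp.add_apply,
      Nat.factorization_eq_zero_of_not_dvd (fun h => hpq (hpr.dvd_of_dvd_pow h)), zero_add,
      Nat.factorization_def _ hpr, h5]
  rw [Matrix.card_GL_field, Nat.factorization_prod (fun i _ => Nat.sub_ne_zero_of_lt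
    (Nat.pow_lt_pow_right hq i.2)), Finsupp.coe_finset_sum, Finset.sum_apply,
    Finset.sum_congr rfl (fun i _ => hfac i), Finset.sum_add_distrib, Finset.sum_const, Finset.card_univ,
    Fintype.card_fin, smul_eq_mul, mul_one]
  congr 1
  have : NeZero p := ⟨hpr.ne_zero⟩
  rw [Finset.sum_eq_single (0 : ι) (fun i _ hi => ?_) (fun h => absurd (Finset.mem_univ _) h)]
  · simp [padicValNat.self hpr.one_lt]
  · apply padicValNat.eq_zero_of_not_dvd
    intro h
    have hi0 : (i : ℕ) ≠ 0 := fun h' => hi (Fin.ext h')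
    have := Nat.le_of_dvd (by omega) h
    omega

theorem main (hp : p ≠ 2) (h1 : p ∣ Fintype.card F - 1) (h2 : ¬ p ^ 2 ∣ Fintype.card F - 1) :
    ∃ Q : Sylow p (GL (Fin p) F), ∀ x : GL (Fin p) F,
      (∃ k : ℕ, orderOf x = p ^ k) → ∃ P : Sylow p (GL (Fin p) F), P ≠ Q ∧ x ∈ P := by
  classical
  have hpr : p.Prime := Fact.out
  have hp3 : 3 ≤ p := by have := hpr.two_le; omega
  haveI : NeZero p := ⟨hpr.ne_zero⟩
  haveI : Fact (1 < p) := ⟨hpr.one_lt⟩
  -- the `p`-th roots of unity
  have hζ : ∃ ζ : F, ζ ≠ 1 ∧ ζ ^ p = 1 := by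
    obtain ⟨u, hu⟩ := exists_prime_orderOf_dvd_card' (G := Fˣ) p (by rwa [Nat.card_units, Nat.card_eq_fintype_card])
    refine ⟨(u : F), fun h => ?_, ?_⟩
    · rw [Units.val_eq_one.1 h, orderOf_one] at hu; exact hpr.ne_one hu.symm
    · rw [← Units.val_pow_eq_pow_val, ← hu, pow_orderOf_eq_one, Units.val_one]
  obtain ⟨ζ, hζ1, hζp⟩ := hζ
  have hζo : orderOf ζ = p := orderOf_eq_prime hζp hζ1
  have hroots : ∀ r : F, r ^ p = 1 → ∃ k : Fin p, ζ ^ (k : ℕ) = r := fun r hr => by
    have hprim : IsPrimitiveRoot ζ p := hζo ▸ IsPrimitiveRoot.orderOf ζ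
    obtain ⟨k, hk, hk'⟩ := hprim.eq_pow_of_pow_eq_one hr
    exact ⟨⟨k, hk⟩, hk'⟩
  have hζk : ∀ n : ℕ, (ζ ^ n) ^ p = 1 := fun n => by rw [← pow_mul, mul_comm, pow_mul, hζp, one_pow]
  have hpF : (p : F) ≠ 0 := by
    intro h
    have hc := CharP.char_is_prime F (ringChar F)
    have hpe : ringChar F = p := (Nat.prime_dvd_prime_iff_eq hc hpr).1 ((CharP.cast_eq_zero_iff F (ringChar F) p).1 h)
    obtain ⟨m, -, hm⟩ := FiniteField.card F (ringChar F)
    rw [hpe] at hm
    have h3 : p ∣ Fintype.card F := hm ▸ dvd_pow_self p m.ne_zero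
    have := (Nat.dvd_add_iff_right h1).2 (show p ∣ Fintype.card F - 1 + 1 by
      rwa [Nat.sub_add_cancel Fintype.card_pos])
    exact hpr.not_dvd_one this
  have hne0 : ∀ r : F, r ^ p = 1 → r ≠ 0 := fun r hr h => by
    rw [h, zero_pow hpr.ne_zero] at hr; exact zero_ne_one hr
  -- the monomial `p`-group
  let good : (Fin p → F) → Prop := fun d => ∀ k, d k ^ p = 1
  let S : Submonoid (Matrix (Fin p) (Fin p) F) :=
    { carrier := {g | ∃ d i, good d ∧ g = mono d i}
      one_mem' := ⟨fun _ => 1, 0, fun k => one_pow p, mono_one.symm⟩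
      mul_mem' := by
        rintro _ _ ⟨d, i, hd, rfl⟩ ⟨e, j, he, rfl⟩
        exact ⟨_, _, fun k => by rw [mul_pow, hd, he, one_mul], mono_mul d e i j⟩ }
  let Qm : Submonoid (GL (Fin p) F) := S.comap (Units.coeHom _)
  let Q₀ : Subgroup (GL (Fin p) F) :=
    { Qm with
      inv_mem' := fun {g} hg => by
        have hfin : IsOfFinOrder g := isOfFinOrder_of_finite g
        obtain ⟨m, hm⟩ := (Submonoid.mem_powers_iff _ _).1 (hfin.mem_powers_iff_mem_zpowers.2 (inv_mem (Subgroup.mem_zpowers g)))
        exact hm ▸ Qm.pow_mem hg m }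
  have hmem : ∀ g : GL (Fin p) F, g ∈ Q₀ ↔ ∃ d i, good d ∧ (g : Matrix (Fin p) (Fin p) F) = mono d i :=
    fun g => Iff.rfl
  have hunit : ∀ d i, good d → IsUnit (mono d i) := by
    intro d i hd
    refine (Units.mk (mono d i) (mono (fun k => (d (k - i))⁻¹) (-i)) ?_ ?_).isUnit
    · rw [mono_mul, add_neg_cancel, ← mono_one]
      congr 1
      funext k
      rw [add_sub_cancel_right, mul_inv_cancel₀ (hne0 _ (hd k))]
    · rw [mono_mul, neg_add_cancel, ← mono_one]
      congr 1
      funext k
      rw [← sub_eq_add_neg, inv_mul_cancel₀ (hne0 _ (hd _))]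
  have hcardQ : Nat.card Q₀ = p ^ (p + 1) := by
    let f : (Fin p → Fin p) × Fin p → Q₀ := fun x =>
      ⟨(hunit (fun k => ζ ^ (x.1 k : ℕ)) x.2 (fun k => hζk _)).unit,
        (hmem _).2 ⟨_, _, fun k => hζk _, rfl⟩⟩
    have hf : Function.Bijective f := by
      refine ⟨fun x y hxy => ?_, fun g => ?_⟩
      · have h3 := congrArg (fun z : Q₀ => ((z : GL (Fin p) F) : Matrix (Fin p) (Fin p) F)) hxy
        simp only [f, IsUnit.unit_spec] at h3
        obtain ⟨hi, hd⟩ := mono_eq (fun k => pow_ne_zero _ (hne0 ζ hζp)) h3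
        refine Prod.ext (funext fun k => Fin.ext ?_) hi
        exact pow_injOn_Iio_orderOf (by rw [hζo]; exact (x.1 k).2) (by rw [hζo]; exact (y.1 k).2) (congrFun hd k)
      · obtain ⟨d, i, hd, hg⟩ := (hmem _).1 g.2
        choose t ht using fun k => hroots _ (hd k)
        refine ⟨(t, i), Subtype.ext (Units.ext ?_)⟩
        simp only [f, IsUnit.unit_spec, hg]
        congr 1
        exact funext ht
    rw [← Nat.card_congr (Equiv.ofBijective f hf), Nat.card_prod, Nat.card_fun, Nat.card_fin, pow_succ]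
  let Q : Sylow p (GL (Fin p) F) := Sylow.ofCard Q₀ (by rw [hcardQ, padic_card hp h1 h2])
  have hQ0 : (Q : Subgroup (GL (Fin p) F)) = Q₀ := rfl
  -- an element preserving `Q` preserves the diagonal subgroup
  have hpres : ∀ g : GL (Fin p) F, g • Q = Q → ∀ d : Fin p → F, good d →
      ∃ d', good d' ∧ (g : Matrix (Fin p) (Fin p) F) * mono d 0 * ((g⁻¹ : GL (Fin p) F) : Matrix (Fin p) (Fin p) F) = mono d' 0 := by
    intro g hg
    have himg : ∀ d, good d → ∃ d' i, good d' ∧
        (g : Matrix (Fin p) (Fin p) F) * mono d 0 * ((g⁻¹ : GL (Fin p) F) : Matrix (Fin p) (Fin p) F) = mono d' i := by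
      intro d hd
      have h3 : g * (hunit d 0 hd).unit * g⁻¹ ∈ ((g • Q : Sylow p (GL (Fin p) F)) : Subgroup (GL (Fin p) F)) := by
        rw [Sylow.coe_subgroup_smul]
        exact ⟨(hunit d 0 hd).unit, (hmem _).2 ⟨d, 0, hd, rfl⟩, rfl⟩
      rw [hg, hQ0] at h3
      obtain ⟨d', i, hd', h4⟩ := (hmem _).1 h3
      exact ⟨d', i, hd', h4⟩
    intro d₀ hd₀
    by_contra hno
    obtain ⟨e, i, he, hei⟩ := himg d₀ hd₀
    have hi : i ≠ 0 := fun h => hno ⟨e, he, h ▸ hei⟩
    let T : Set (Fin p → F) := {d | good d ∧ ∃ c, (g : Matrix (Fin p) (Fin p) F) * mono d 0 * ((g⁻¹ : GL (Fin p) F) : Matrix (Fin p) (Fin p) F) = mono c 0}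
    -- all diagonal images are scalar
    have hscal : ∀ d ∈ T, ∀ k l, d k = d l := by
      rintro d ⟨hd, c, hc⟩ k l
      have hcomm : mono c 0 * mono e i = mono e i * mono c 0 := by
        rw [← hc, ← hei]
        simp only [mul_assoc, ← mul_assoc ((g⁻¹ : GL (Fin p) F) : Matrix (Fin p) (Fin p) F) (g : Matrix _ _ F),
          Units.inv_mul, one_mul]
        rw [← mul_assoc (mono d 0), ← mul_assoc (mono d₀ 0), mono_mul, mono_mul]
        simp [mul_comm]
      have hc' := const_of_commute (fun k => add_zero k) hi (fun m => hne0 _ (he m)) hcomm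
      have hm : mono c (0 : Fin p) = c 0 • (1 : Matrix (Fin p) (Fin p) F) := by
        ext a b
        by_cases h : a = b
        · subst h; simp [mono_apply, hc' a 0]
        · simp [mono_apply, Ne.symm h, h]
      have h5 : mono d (0 : Fin p) = c 0 • (1 : Matrix (Fin p) (Fin p) F) := by
        have h6 := congrArg (fun M => ((g⁻¹ : GL (Fin p) F) : Matrix (Fin p) (Fin p) F) * M * (g : Matrix _ _ F)) hc
        simp only [← mul_assoc, Units.inv_mul, one_mul] at h6
        rw [mul_assoc, Units.inv_mul, mul_one, hm] at h6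
        rw [h6, Matrix.mul_smul, mul_one, Matrix.smul_mul, Units.inv_mul]
      have hk : ∀ a, d a = c 0 := fun a => by
        have := congrFun (congrFun h5 a) a
        simpa [mono_apply] using this
      rw [hk k, hk l]
    -- the shift map has a large kernel
    let shift : (Fin p → Fin p) → Fin p := fun t =>
      (himg (fun k => ζ ^ (t k : ℕ)) (fun k => hζk _)).choose_spec.choose
    obtain ⟨j, hj⟩ := Fintype.exists_lt_card_fiber_of_mul_lt_card (f := shift) (n := p)
      (by rw [Fintype.card_fun, Fintype.card_fin]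
          calc p * p = p ^ 2 := (sq p).symm
            _ < p ^ p := Nat.pow_lt_pow_right hpr.one_lt hp3)
    -- two tuples in one fibre differ by a scalar
    have hdiff : ∀ s t, shift s = j → shift t = j → ∀ k l,
        ζ ^ (s k : ℕ) * (ζ ^ (t k : ℕ))⁻¹ = ζ ^ (s l : ℕ) * (ζ ^ (t l : ℕ))⁻¹ := by
      intro s t hs ht
      apply hscal
      refine ⟨fun k => by rw [mul_pow, inv_pow, hζk, hζk, inv_one, one_mul], ?_⟩
      obtain ⟨ds, hds, hes⟩ : ∃ ds, good ds ∧ (g : Matrix (Fin p) (Fin p) F) * mono (fun k => ζ ^ (s k : ℕ)) 0 * ((g⁻¹ : GL (Fin p) F) : Matrix (Fin p) (Fin p) F) = mono ds j := by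
        have h := (himg (fun k => ζ ^ (s k : ℕ)) (fun k => hζk _)).choose_spec.choose_spec
        exact ⟨_, h.1, hs ▸ h.2⟩
      obtain ⟨dt, hdt, het⟩ : ∃ dt, good dt ∧ (g : Matrix (Fin p) (Fin p) F) * mono (fun k => ζ ^ (t k : ℕ)) 0 * ((g⁻¹ : GL (Fin p) F) : Matrix (Fin p) (Fin p) F) = mono dt j := by
        have h := (himg (fun k => ζ ^ (t k : ℕ)) (fun k => hζk _)).choose_spec.choose_spec
        exact ⟨_, h.1, ht ▸ h.2⟩
      refine ⟨fun k => ds k * (dt k)⁻¹, ?_⟩
      have h7 : mono (fun k => ζ ^ (s k : ℕ) * (ζ ^ (t k : ℕ))⁻¹) (0 : Fin p) * mono (fun k => ζ ^ (t k : ℕ)) 0 =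
          mono (fun k => ζ ^ (s k : ℕ)) 0 := by
        rw [mono_mul, add_zero]
        congr 1
        funext k
        rw [add_zero, inv_mul_cancel_right₀ (pow_ne_zero _ (hne0 ζ hζp))]
      have h8 : mono (fun k => ds k * (dt k)⁻¹) (0 : Fin p) * mono dt j = mono ds j := by
        rw [mono_mul, zero_add]
        congr 1
        funext k
        rw [add_zero, inv_mul_cancel_right₀ (hne0 _ (hdt k))]
      apply ((hunit dt j hdt).mul_left_inj).1
      rw [h8, ← het, ← hes, ← h7]
      simp only [mul_assoc, ← mul_assoc ((g⁻¹ : GL (Fin p) F) : Matrix (Fin p) (Fin p) F) (g : Matrix _ _ F),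
        Units.inv_mul, one_mul]
    -- so a fibre has at most `p` members
    obtain ⟨t, ht⟩ := Finset.card_pos.1 (lt_of_le_of_lt (Nat.zero_le p) hj)
    have hle : (Finset.univ.filter fun s => shift s = j).card ≤ (Finset.univ : Finset (Fin p)).card := by
      refine Finset.card_le_card_of_injOn (fun s => s 0) (fun _ _ => Finset.mem_univ _) ?_
      intro s hs s' hs' h0
      simp only [Finset.coe_filter, Finset.mem_univ, true_and, Set.mem_setOf_eq] at hs hs'
      funext k
      have h := hdiff s s' hs hs' k 0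
      simp only at h0
      rw [h0, mul_inv_cancel₀ (pow_ne_zero _ (hne0 ζ hζp)), mul_inv_eq_one₀ (pow_ne_zero _ (hne0 ζ hζp))] at h
      exact Fin.ext (pow_injOn_Iio_orderOf (by rw [hζo]; exact (s k).2) (by rw [hζo]; exact (s' k).2) h)
    rw [Finset.card_univ, Fintype.card_fin] at hle
    omega
  -- an element with two nonzero entries in a row moves `Q`
  have hrow : ∀ (g : GL (Fin p) F) (k a b : Fin p), a ≠ b → (g : Matrix (Fin p) (Fin p) F) k a ≠ 0 →
      (g : Matrix (Fin p) (Fin p) F) k b ≠ 0 → g • Q ≠ Q := by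
    intro g k a b hab ha hb hg
    obtain ⟨d', -, hd'⟩ := hpres g hg (fun m => if m = a then ζ else 1) (fun m => by simp only; split_ifs <;> simp [hζp])
    have h3 : (g : Matrix (Fin p) (Fin p) F) * mono (fun m => if m = a then ζ else 1) 0 =
        mono d' 0 * (g : Matrix (Fin p) (Fin p) F) := by
      rw [← hd', mul_assoc _ ((g⁻¹ : GL (Fin p) F) : Matrix (Fin p) (Fin p) F), Units.inv_mul, mul_one]
    have hent : ∀ l, (g : Matrix (Fin p) (Fin p) F) k l * (if l = a then ζ else 1) =
        d' k * (g : Matrix (Fin p) (Fin p) F) k l := by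
      intro l
      have h4 := congrFun (congrFun h3 k) l
      rw [Matrix.mul_apply, Matrix.mul_apply, Finset.sum_eq_single l (fun m _ hm => by simp [mono_apply, Ne.symm hm])
        (fun h => absurd (Finset.mem_univ _) h), Finset.sum_eq_single k (fun m _ hm => by simp [mono_apply, hm])
        (fun h => absurd (Finset.mem_univ _) h)] at h4
      simpa [mono_apply] using h4
    have e1 := hent a
    have e2 := hent b
    rw [if_pos rfl, mul_comm (d' k)] at e1
    rw [if_neg (Ne.symm hab), mul_comm (d' k)] at e2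
    exact hζ1 ((mul_left_cancel₀ ha e1).trans (mul_left_cancel₀ hb e2).symm)
  refine ⟨Q, fun x hx => ?_⟩
  by_cases hxQ : x ∈ Q
  swap
  · obtain ⟨k, hk⟩ := hx
    obtain ⟨P, hP⟩ := (IsPGroup.of_card (n := k) (by rw [Nat.card_zpowers, hk]) :
      IsPGroup p (Subgroup.zpowers x)).exists_le_sylow
    exact ⟨P, fun h => hxQ (h ▸ hP (Subgroup.mem_zpowers x)), hP (Subgroup.mem_zpowers x)⟩
  -- a commuting element not fixing `Q` suffices
  have hcomm : ∀ g : GL (Fin p) F, Commute g x → g • Q ≠ Q → ∃ P : Sylow p (GL (Fin p) F), P ≠ Q ∧ x ∈ P := by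
    intro g hg hne
    refine ⟨g • Q, hne, ?_⟩
    show x ∈ ((g • Q : Sylow p (GL (Fin p) F)) : Subgroup (GL (Fin p) F))
    rw [Sylow.coe_subgroup_smul]
    exact ⟨x, hxQ, by show g * x * g⁻¹ = x; rw [hg.eq, mul_inv_cancel_right]⟩
  obtain ⟨d, i, hd, hx'⟩ := (hmem x).1 hxQ
  have hcommat : ∀ g : GL (Fin p) F, (g : Matrix (Fin p) (Fin p) F) * mono d i = mono d i * (g : Matrix _ _ F) →
      Commute g x := fun g h => Units.ext (by rw [Units.val_mul, Units.val_mul, hx', h])
  by_cases hi : i = 0
  · subst hi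
    by_cases hinj : Function.Injective d
    · -- conjugate to the shift
      let V : Matrix (Fin p) (Fin p) F := (vandermonde d).transpose
      have hV : IsUnit V := by
        rw [Matrix.isUnit_iff_isUnit_det, Matrix.det_transpose, isUnit_iff_ne_zero]
        exact det_vandermonde_ne_zero_iff.2 hinj
      have hsh : mono (fun _ : Fin p => (1 : F)) 1 * V = V * mono d 0 := by
        ext k l
        rw [Matrix.mul_apply, Matrix.mul_apply, Finset.sum_eq_single (k + 1) (fun m _ hm => by simp [mono_apply, hm])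
          (fun h => absurd (Finset.mem_univ _) h), Finset.sum_eq_single l (fun m _ hm => by simp [mono_apply, Ne.symm hm])
          (fun h => absurd (Finset.mem_univ _) h)]
        simp only [V, Matrix.transpose_apply, vandermonde_apply, mono_apply, if_true, add_zero, one_mul]
        rw [← pow_succ, Fin.val_add, Fin.val_one', Nat.add_mod_mod]
        exact (pow_eq_pow_mod _ (hd l)).symm
      set v := hV.unit with hv
      set w := (hunit (fun _ : Fin p => (1 : F)) 1 (fun _ => one_pow p)).unit with hw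
      have hxw : x = v⁻¹ * w * v := by
        rw [mul_assoc, eq_inv_mul_iff_mul_eq]
        refine Units.ext ?_
        rw [Units.val_mul, Units.val_mul, hx', hw, hv, IsUnit.unit_spec, IsUnit.unit_spec]
        exact hsh.symm
      refine ⟨v⁻¹ • Q, fun hfix => ?_, ?_⟩
      · have hfix' : v • Q = Q := by
          conv_lhs => rw [← hfix, smul_inv_smul]
        obtain ⟨d', hd', h9⟩ := hpres v hfix' d hd
        have h10 : mono (fun _ : Fin p => (1 : F)) 1 = mono d' 0 := by
          rw [← h9, hv, IsUnit.unit_spec, ← hsh, mul_assoc, IsUnit.mul_val_inv, mul_one]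
        have h11 := congrArg Fin.val (mono_eq (fun _ => one_ne_zero) h10).1
        rw [Fin.val_one', Fin.val_zero, Nat.mod_eq_of_lt hpr.one_lt] at h11
        omega
      · show x ∈ ((v⁻¹ • Q : Sylow p (GL (Fin p) F)) : Subgroup (GL (Fin p) F))
        rw [Sylow.coe_subgroup_smul]
        exact ⟨w, (hmem _).2 ⟨_, _, fun _ => one_pow p, rfl⟩, by show v⁻¹ * w * v⁻¹⁻¹ = x; rw [inv_inv, hxw]⟩
    · -- a transvection between equal entries
      rw [Function.not_injective_iff] at hinj
      obtain ⟨a, b, hab, hne⟩ := hinj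
      let T : Matrix (Fin p) (Fin p) F := Matrix.transvection a b 1
      have hT : IsUnit T := by
        rw [Matrix.isUnit_iff_isUnit_det, Matrix.det_transvection_of_ne a b hne]
        exact isUnit_one
      refine hcomm hT.unit (hcommat _ ?_) (hrow hT.unit a a b hne ?_ ?_)
      · rw [IsUnit.unit_spec]
        ext k l
        rw [Matrix.mul_apply, Matrix.mul_apply, Finset.sum_eq_single l (fun m _ hm => by simp [mono_apply, Ne.symm hm])
          (fun h => absurd (Finset.mem_univ _) h), Finset.sum_eq_single k (fun m _ hm => by simp [mono_apply, hm])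
          (fun h => absurd (Finset.mem_univ _) h)]
        simp only [T, Matrix.transvection, Matrix.add_apply, mono_apply, if_true, add_zero]
        by_cases hkl : k = l
        · subst hkl; ring
        · rw [Matrix.one_apply_ne hkl, zero_add]
          by_cases hs : a = k ∧ b = l
          · obtain ⟨rfl, rfl⟩ := hs
            rw [Matrix.single_apply_same, hab, one_mul, mul_one]
          · simp [Matrix.single_apply, hs]
      · rw [IsUnit.unit_spec]
        simp [T, Matrix.transvection, Ne.symm hne]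
      · rw [IsUnit.unit_spec]
        simp [T, Matrix.transvection, hne]
  -- `i ≠ 0`
  set X := mono d i with hX
  have hpow : ∀ n : ℕ, ∃ e, good e ∧ X ^ n = mono e (n • i) := by
    intro n
    induction n with
    | zero => exact ⟨fun _ => 1, fun _ => one_pow p, by rw [pow_zero, zero_nsmul, mono_one]⟩
    | succ n ih =>
      obtain ⟨e, he, h⟩ := ih
      refine ⟨_, fun k => ?_, by rw [pow_succ, h, hX, mono_mul, succ_nsmul]⟩
      rw [mul_pow, he, hd, one_mul]
  choose e he hxe using hpow
  have hpi : p • i = 0 := by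
    have h := card_nsmul_eq_zero' (G := Fin p) (x := i)
    rwa [Nat.card_fin] at h
  have hinjmul : ∀ a < p, ∀ b < p, a • i = b • i → a = b := fun a ha b hb h =>
    nsmul_injOn_Iio_addOrderOf (by rw [addOrderOf_eq_prime hpi hi]; exact ha) (by rw [addOrderOf_eq_prime hpi hi]; exact hb) h
  have hconst := const_of_commute (d := e p) (e := d) (z := (0 : Fin p)) (fun k => add_zero k) hi (fun k => hne0 _ (hd k))
    (by rw [← hpi, ← hxe, ← hX, ← pow_succ, ← pow_succ'])
  set c := e p 0 with hc
  have hXp : X ^ p = c • (1 : Matrix (Fin p) (Fin p) F) := by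
    rw [hxe, hpi]
    ext a b
    by_cases h : a = b
    · subst h; simp [mono_apply, hconst a 0, hc]
    · simp [mono_apply, Ne.symm h, h]
  set E : Matrix (Fin p) (Fin p) F := ∑ j ∈ Finset.range p, X ^ j with hE
  have hentry : ∀ m < p, E 0 (m • i) = e m 0 := by
    intro m hm
    rw [hE, Matrix.sum_apply, Finset.sum_eq_single m (fun j hj hjm => ?_) (fun h => absurd (Finset.mem_range.2 hm) h)]
    · rw [hxe, mono_apply, zero_add, if_pos rfl]
    · rw [hxe, mono_apply, zero_add, if_neg]
      exact fun h => hjm (hinjmul m hm j (Finset.mem_range.1 hj) h).symm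
  by_cases hc1 : c = 1
  · -- `X ^ p = 1`
    rw [hc1, one_smul] at hXp
    have hXE : X * E = E := by
      have h3 := mul_geom_sum X p
      rw [hXp, sub_self, sub_mul, one_mul, sub_eq_zero] at h3
      exact h3
    have hjE : ∀ j : ℕ, X ^ j * E = E := by
      intro j
      induction j with
      | zero => rw [pow_zero, one_mul]
      | succ j ih => rw [pow_succ', mul_assoc, ih, hXE]
    have hEE : E * E = (p : F) • E := by
      conv_lhs => arg 1; rw [hE]
      rw [Finset.sum_mul, Finset.sum_congr rfl (fun j _ => hjE j), Finset.sum_const, Finset.card_range, Nat.cast_smul_eq_nsmul]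
    obtain ⟨μ, hμ0, hμ1⟩ : ∃ μ : F, μ ≠ 0 ∧ 1 + p * μ ≠ 0 := by
      by_contra h
      push Not at h
      have hsub : (Finset.univ : Finset F) ⊆ {0, -(p : F)⁻¹} := fun μ _ => by
        rw [Finset.mem_insert, Finset.mem_singleton]
        by_cases h0 : μ = 0
        · exact Or.inl h0
        · right
          have h4 := h μ h0
          field_simp
          linear_combination h4
      have h5 := (Finset.card_le_card hsub).trans Finset.card_le_two
      rw [Finset.card_univ] at h5
      have h6 := Nat.le_of_dvd (Nat.sub_pos_of_lt Fintype.one_lt_card) h1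
      omega
    set ν : F := -μ / (1 + p * μ) with hν
    have hsum : μ + ν + p * μ * ν = 0 := by
      have hν' : (1 + p * μ) * ν = -μ := by rw [hν, mul_div_cancel₀ _ hμ1]
      linear_combination hν'
    have hinv : ∀ a b : F, a + b + p * a * b = 0 →
        (1 + a • E) * (1 + b • E) = (1 : Matrix (Fin p) (Fin p) F) := by
      intro a b hab
      rw [mul_add, add_mul, add_mul, one_mul, one_mul, mul_one, smul_mul_smul_comm, hEE, smul_smul,
        add_assoc, ← add_smul, ← add_smul, show a + (b + a * b * (p : F)) = 0 by linear_combination hab,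
        zero_smul, add_zero]
    set u : GL (Fin p) F := ⟨1 + μ • E, 1 + ν • E, hinv μ ν hsum, hinv ν μ (by linear_combination hsum)⟩
    have hEX : E * X = X * E := by
      rw [hE, Finset.sum_mul, Finset.mul_sum]
      exact Finset.sum_congr rfl fun j _ => by rw [← pow_succ, ← pow_succ']
    refine hcomm u (hcommat _ ?_) (hrow u 0 (1 • i) (2 • i) (fun h => by
      have := hinjmul 1 (by omega) 2 (by omega) h; omega) ?_ ?_)
    · show (1 + μ • E) * X = X * (1 + μ • E)
      rw [add_mul, mul_add, one_mul, mul_one, Matrix.smul_mul, Matrix.mul_smul, hEX]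
    all_goals
      show (1 + μ • E : Matrix (Fin p) (Fin p) F) 0 _ ≠ 0
      rw [Matrix.add_apply, Matrix.smul_apply, Matrix.one_apply_ne, zero_add, hentry _ (by omega), smul_eq_mul]
    · exact mul_ne_zero hμ0 (hne0 _ (he 1 0))
    · intro h
      have := hinjmul 0 hpr.pos 1 (by omega) (by rw [zero_nsmul]; exact h)
      omega
    · exact mul_ne_zero hμ0 (hne0 _ (he 2 0))
    · intro h
      have := hinjmul 0 hpr.pos 2 (by omega) (by rw [zero_nsmul]; exact h)
      omega
  · -- `X ^ p = c ≠ 1`
    have h3 : (1 - X) * E = (1 - c) • (1 : Matrix (Fin p) (Fin p) F) := by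
      rw [hE, mul_neg_geom_sum, hXp, sub_smul, one_smul]
    have h4 : E * (1 - X) = (1 - c) • (1 : Matrix (Fin p) (Fin p) F) := by
      rw [hE, geom_sum_mul_neg, hXp, sub_smul, one_smul]
    have hc0 : (1 : F) - c ≠ 0 := sub_ne_zero.2 (Ne.symm hc1)
    set u : GL (Fin p) F := ⟨1 - X, (1 - c)⁻¹ • E, by rw [Matrix.mul_smul, h3, inv_smul_smul₀ hc0],
      by rw [Matrix.smul_mul, h4, inv_smul_smul₀ hc0]⟩
    refine hcomm u (hcommat _ ?_) (hrow u 0 0 i (Ne.symm hi) ?_ ?_)
    · show (1 - X) * X = X * (1 - X)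
      rw [sub_mul, mul_sub, one_mul, mul_one]
    · show (1 - X : Matrix (Fin p) (Fin p) F) 0 0 ≠ 0
      simp [hX, mono_apply, Ne.symm hi]
    · show (1 - X : Matrix (Fin p) (Fin p) F) 0 i ≠ 0
      simp [hX, mono_apply, Ne.symm hi, hne0 _ (hd 0)]

end Cfsg.Agent.Redundant
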