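import Cfsg.Agent.Linear.Torus
import Cfsg.Agent.Linear.Classes
import Cfsg.Agent.Spec.TorusTwo
import Cfsg.Agent.CharTwo.SLPair

/-!
# Redundant Sylow subgroups of `SL(2, q)` and `PSL(2, q)`
-/

set_option autoImplicit false

namespace Cfsg.Agent.Redundant

open scoped MatrixGroups

/-- `Q` is redundant: every `p`-element lies in another Sylow `p`-subgroup. -/
def IsRedundant {G : Type*} [Group G] {p : ℕ} (Q : Sylow p G) : Prop :=
  ∀ x : G, (∃ k : ℕ, orderOf x = p ^ k) → ∃ P : Sylow p G, P ≠ Q ∧ x ∈ P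

theorem mem_smul_iff {G : Type*} [Group G] {p : ℕ} (g y : G) (S : Sylow p G) :
    y ∈ g • S ↔ g⁻¹ * y * g ∈ S := by
  show y ∈ ((g • S : Sylow p G) : Subgroup G) ↔ g⁻¹ * y * g ∈ (S : Subgroup G)
  rw [Sylow.coe_subgroup_smul]
  constructor
  · rintro ⟨z, (hz : z ∈ (S : Subgroup G)), rfl⟩
    simpa [mul_assoc] using hz
  · intro h
    exact ⟨_, h, by simp [mul_assoc]⟩

theorem not_redundant_of_unique {G : Type*} [Group G] {p : ℕ} [Fact p.Prime] [Finite G]
    {y : G} {S : Sylow p G} (hy : ∃ k : ℕ, orderOf y = p ^ k) (hS : y ∈ S)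
    (hu : ∀ R : Sylow p G, y ∈ R → R = S) (Q : Sylow p G) : ¬ IsRedundant Q := by
  intro h
  obtain ⟨g, rfl⟩ := MulAction.exists_smul_eq G S Q
  obtain ⟨k, hk⟩ := hy
  obtain ⟨P, hP, hmem⟩ := h (g * y * g⁻¹) ⟨k, by
    rw [← hk]; exact orderOf_injective (MulAut.conj g).toMonoidHom (MulAut.conj g).injective y⟩
  refine hP ?_
  have h1 := hu (g⁻¹ • P) (by rw [mem_smul_iff, inv_inv]; exact hmem)
  rw [← h1, smul_inv_smul]

variable {F : Type*} [Field F] [Fintype F]

theorem not_redundant_defining (p : ℕ) [Fact p.Prime] [CharP F p] (Q : Sylow p SL(2, F)) :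
    ¬ IsRedundant Q := by
  classical
  have hcard := Linear.card_sylow_SL_two p Q
  have : Nontrivial (Q : Subgroup SL(2, F)) := by
    rw [← Finite.one_lt_card_iff_nontrivial]
    show 1 < Nat.card Q
    rw [hcard]; exact Fintype.one_lt_card
  obtain ⟨⟨y, hyQ⟩, hy1⟩ := exists_ne (1 : (Q : Subgroup SL(2, F)))
  have hy : y ≠ 1 := fun h => hy1 (Subtype.ext h)
  obtain ⟨k, hk⟩ := Q.isPGroup' ⟨y, hyQ⟩
  have hk' : y ^ p ^ k = 1 := congrArg Subtype.val hk
  obtain ⟨i, -, hi⟩ := (Nat.dvd_prime_pow Fact.out).1 (orderOf_dvd_of_pow_eq_one hk')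
  refine not_redundant_of_unique ⟨i, hi⟩ hyQ (fun R hR => ?_) Q
  by_contra hne
  have hab : ∀ P : Sylow p SL(2, F), y ∈ P → (P : Subgroup SL(2, F)) ≤ Subgroup.centralizer ({y} : Set _) := by
    intro P hP z hz
    obtain ⟨g, hg⟩ := Linear.exists_sylow_SL_two_eq_conj p P
    obtain ⟨u, hu, rfl⟩ := hg.le hP
    obtain ⟨v, hv, rfl⟩ := hg.le hz
    rw [Subgroup.mem_centralizer_singleton_iff, ← map_mul, ← map_mul]
    congr 1
    obtain ⟨hu0, hu1, hu2⟩ := Linear.mem_upperSL.1 hu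
    obtain ⟨hv0, hv1, hv2⟩ := Linear.mem_upperSL.1 hv
    apply Linear.slTwo_ext <;> simp [Linear.slTwo_mul_apply, hu0, hu1, hu2, hv0, hv1, hv2, add_comm]
  have htop := Linear.sylow_SL_two_sup_eq_top p hne
  have hc : y ∈ Subgroup.center SL(2, F) := by
    rw [Subgroup.mem_center_iff]
    intro z
    exact Subgroup.mem_centralizer_singleton_iff.1
      ((sup_le (hab R hR) (hab Q hyQ)) (htop.ge (Subgroup.mem_top z)))
  obtain ⟨c, hc2, hyc⟩ := Linear.Classes.scalar_SL (Linear.Classes.mem_center_iff_scalar.1 hc)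
  have hyk : (y : Matrix (Fin 2) (Fin 2) F) ^ p ^ k = 1 := by
    rw [← Matrix.SpecialLinearGroup.coe_pow, hk']; rfl
  rw [hyc, smul_pow, one_pow] at hyk
  have hck : c ^ p ^ k = 1 := by
    have := congrFun (congrFun hyk 0) 0
    simpa using this
  have hc1 : c = 1 := by
    have : (c - 1) ^ p ^ k = 0 := by rw [sub_pow_char_pow, hck, one_pow, sub_self]
    exact sub_eq_zero.1 (pow_eq_zero_iff (pow_ne_zero k (Fact.out : p.Prime).ne_zero) |>.1 this)
  rw [hc1, one_smul] at hyc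
  exact hy (Subtype.ext hyc)

theorem not_redundant_cyclic {G : Type*} [Group G] [Finite G] {p : ℕ} [Fact p.Prime]
    (hc : ∀ P : Sylow p G, IsCyclic (P : Subgroup G)) (Q : Sylow p G) : ¬ IsRedundant Q := by
  haveI := hc Q
  obtain ⟨⟨y, hy⟩, hgen⟩ := IsCyclic.exists_generator (α := (Q : Subgroup G))
  obtain ⟨k, hk⟩ := Q.isPGroup' ⟨y, hy⟩
  obtain ⟨i, -, hi⟩ := (Nat.dvd_prime_pow Fact.out).1 (orderOf_dvd_of_pow_eq_one (congrArg Subtype.val hk : y ^ p ^ k = 1))
  refine not_redundant_of_unique ⟨i, hi⟩ hy (fun R hR => ?_) Q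
  refine Sylow.ext (Q.is_maximal' R.isPGroup' (fun z hz => ?_))
  obtain ⟨j, hj⟩ := Subgroup.mem_zpowers_iff.1 (hgen ⟨z, hz⟩)
  rw [← show (y ^ j : G) = z from congrArg Subtype.val hj]
  exact Subgroup.zpow_mem _ hR j

/-- The numerical condition. -/
def Good (p q : ℕ) : Prop :=
  p = 2 ∧ (¬ ∃ k : ℕ, q + 1 = 2 ^ k) ∧ (¬ ∃ k : ℕ, q = 2 ^ k) ∧ ¬ ∃ k : ℕ, q = 2 ^ k + 1

theorem two_case (hF : Odd (Fintype.card F)) :
    (∃ Q : Sylow 2 SL(2, F), IsRedundant Q) ↔ Good 2 (Fintype.card F) := by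
  classical
  haveI : Fact (Nat.Prime 2) := ⟨Nat.prime_two⟩
  set q := Fintype.card F with hq
  have hq1 : 1 < q := Fintype.one_lt_card
  have h2 : (2 : F) ≠ 0 := Linear.two_ne_zero_of_odd_card hF
  obtain ⟨j, hj⟩ := id hF
  obtain ⟨m, hm, h4⟩ : ∃ m, (m = q - 1 ∨ m = q + 1) ∧ 4 ∣ m := by
    rcases Nat.even_or_odd j with ⟨i, hi⟩ | ⟨i, hi⟩
    · exact ⟨_, Or.inl rfl, ⟨i, by omega⟩⟩
    · exact ⟨_, Or.inr rfl, ⟨i + 1, by omega⟩⟩
  have hgood : Good 2 q ↔ ¬ ∃ s, m = 2 ^ s := by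
    constructor
    · rintro ⟨-, h1, -, h3⟩ ⟨s, hs⟩
      rcases hm with hm | hm
      · exact h3 ⟨s, by omega⟩
      · exact h1 ⟨s, by omega⟩
    · intro h
      refine ⟨rfl, ?_, ?_, ?_⟩
      · rintro ⟨k, hk⟩
        rcases k with - | - | k
        · simp at hk; omega
        · simp at hk; omega
        · refine h ⟨k + 2, ?_⟩
          have h8 : 4 ∣ q + 1 := by rw [hk]; exact ⟨2 ^ k, by ring⟩
          rw [← show q + 1 = 2 ^ (k + 2) from hk]
          omega
      · rintro ⟨k, hk⟩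
        rcases k with - | k
        · simp at hk; omega
        · have : 2 ∣ q := by rw [hk]; exact dvd_pow_self 2 (Nat.succ_ne_zero k)
          omega
      · rintro ⟨k, hk⟩
        rcases k with - | - | k
        · simp at hk; omega
        · exact h ⟨2, by simp at hk ⊢; omega⟩
        · refine h ⟨k + 2, ?_⟩
          have h8 : 4 ∣ q - 1 := by rw [hk, Nat.add_sub_cancel]; exact ⟨2 ^ k, by ring⟩
          rw [show (2 : ℕ) ^ (k + 2) = q - 1 from (Nat.eq_sub_of_add_eq hk.symm)]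
          omega
  obtain ⟨a, x, ha, hx, hconj⟩ := Linear.exists_torus (F := F) m hm
  obtain ⟨m', hm', hdiff, hcard⟩ := Linear.sl_two_card_factor (F := F) m hm
  rw [← hq] at hcard
  have hm0 : m ≠ 0 := by rcases hm with rfl | rfl <;> omega
  set s := m.factorization 2 with hs
  have hpr : 2 ^ s ∣ m := Nat.ordProj_dvd m 2
  have hs2 : 2 ≤ s := (Nat.Prime.pow_dvd_iff_le_factorization Nat.prime_two hm0).1 (by simpa using h4)
  set a' := a ^ (m / 2 ^ s) with ha'
  have ho : orderOf a' = 2 ^ s := by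
    rw [orderOf_pow_of_dvd (Nat.div_pos (Nat.le_of_dvd (Nat.pos_of_ne_zero hm0) hpr) (by positivity)).ne'
      (by rw [ha]; exact Nat.div_dvd_of_dvd hpr), ha, Nat.div_div_self hpr hm0]
  -- the square `-1`
  set b := a' ^ 2 ^ (s - 2) with hb
  have hbb : b * b = -1 := by
    apply Subtype.ext
    rw [Matrix.SpecialLinearGroup.coe_neg, Matrix.SpecialLinearGroup.coe_one]
    refine Linear.eq_neg_one_of_mul_self h2 ?_ ?_
    · intro h
      rw [hb, ← pow_add, ← orderOf_dvd_iff_pow_eq_one, ho, ← two_mul, ← pow_succ'] at h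
      have := Nat.pow_dvd_pow_iff_le_right (show 1 < 2 by norm_num) |>.1 h
      omega
    · rw [hb, ← pow_add, ← pow_add, ← orderOf_dvd_iff_pow_eq_one, ho]
      exact dvd_of_eq (by rw [← two_mul, ← two_mul, ← mul_assoc, show (2 * 2 : ℕ) = 2 ^ 2 by norm_num, ← pow_add]; congr 1; omega)
  have hconj' : ∀ i : ℕ, x * a ^ i * x⁻¹ = (a ^ i)⁻¹ := fun i => by rw [← conj_pow, hconj, inv_pow]
  have hneg : x * x = b * b := hx.trans hbb.symm
  -- the subgroup `S`
  let T := Subgroup.zpowers a'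
  have hxT : x ∈ Subgroup.normalizer (T : Set SL(2, F)) := by
    have hi : ∀ z ∈ T, x * z * x⁻¹ = z⁻¹ := by
      intro z hz
      obtain ⟨i, rfl⟩ := (Submonoid.mem_powers_iff _ _).1 ((isOfFinOrder_of_finite a').mem_powers_iff_mem_zpowers.2 hz)
      rw [ha', ← pow_mul]; exact hconj' _
    rw [Subgroup.mem_normalizer_iff]
    intro z
    refine ⟨fun hz => (hi z hz).symm ▸ T.inv_mem hz, fun hz => ?_⟩
    have h3 := hi _ hz
    rw [show x * (x * z * x⁻¹) * x⁻¹ = (x * x) * z * (x * x)⁻¹ by group] at h3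
    have h4 : (x * x) * z * (x * x)⁻¹ = z := by
      rw [hx]
      apply Subtype.ext
      simp
    rw [h4] at h3
    rw [h3]
    exact T.inv_mem hz
  have hbT : b ∈ T := Subgroup.pow_mem _ (Subgroup.mem_zpowers a') _
  have hxnT : x ∉ T := by
    intro h
    have hcm : x * a * x⁻¹ = a := by
      obtain ⟨i, hi⟩ := Subgroup.mem_zpowers_iff.1 h
      rw [← hi, mul_inv_eq_iff_eq_mul, ha']
      exact ((((Commute.refl a).pow_left _).zpow_left i)).eq
    have h5 : a ^ 2 = 1 := by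
      rw [pow_two, ← eq_inv_iff_mul_eq_one]; exact hcm.symm.trans hconj
    have := Nat.le_of_dvd two_pos (ha ▸ orderOf_dvd_of_pow_eq_one h5)
    have := Nat.le_of_dvd (Nat.pos_of_ne_zero hm0) h4
    omega
  let S₀ : Subgroup SL(2, F) :=
    { carrier := {z | z ∈ T ∨ z * x⁻¹ ∈ T}
      one_mem' := Or.inl T.one_mem
      mul_mem' := by
        have hn : ∀ z, z ∈ T → x * z * x⁻¹ ∈ T := fun z hz => (Subgroup.mem_normalizer_iff.1 hxT z).1 hz
        rintro u v (hu | hu) (hv | hv)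
        · exact Or.inl (T.mul_mem hu hv)
        · exact Or.inr (by rw [mul_assoc]; exact T.mul_mem hu hv)
        · right
          rw [show u * v * x⁻¹ = (u * x⁻¹) * (x * v * x⁻¹) by group]
          exact T.mul_mem hu (hn v hv)
        · left
          rw [show u * v = (u * x⁻¹) * (x * (v * x⁻¹) * x⁻¹) * (x * x) by group, hneg]
          exact T.mul_mem (T.mul_mem hu (hn _ hv)) (T.mul_mem hbT hbT)
      inv_mem' := by
        rintro u (hu | hu)
        · exact Or.inl (T.inv_mem hu)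
        · right
          rw [show u⁻¹ * x⁻¹ = ((x * (u * x⁻¹) * x⁻¹) * (x * x))⁻¹ * 1 by group, hneg, mul_one]
          exact T.inv_mem (T.mul_mem ((Subgroup.mem_normalizer_iff.1 hxT _).1 hu) (T.mul_mem hbT hbT)) }
  have hcS : Nat.card S₀ = 2 ^ (s + 1) := by
    let f : T × Bool → S₀ := fun z =>
      ⟨if z.2 then (z.1 : SL(2, F)) * x else z.1, by
        rcases z with ⟨⟨z, hz⟩, - | -⟩
        · exact Or.inl hz
        · exact Or.inr (by simpa [mul_assoc] using hz)⟩
    have hf : Function.Bijective f := by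
      refine ⟨?_, ?_⟩
      · rintro ⟨⟨u, hu⟩, i⟩ ⟨⟨v, hv⟩, j⟩ h
        have h' := congrArg Subtype.val h
        simp only [f] at h'
        rcases i <;> rcases j <;> simp at h'
        · subst h'; rfl
        · exact absurd (by rw [show x = v⁻¹ * u by rw [h', inv_mul_cancel_left]]; exact T.mul_mem (T.inv_mem hv) hu) hxnT
        · exact absurd (by rw [show x = u⁻¹ * v by rw [← h', inv_mul_cancel_left]]; exact T.mul_mem (T.inv_mem hu) hv) hxnT
        · subst h'; rfl
      · rintro ⟨z, hz | hz⟩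
        · exact ⟨(⟨z, hz⟩, false), rfl⟩
        · exact ⟨(⟨_, hz⟩, true), Subtype.ext (by simp [f])⟩
    rw [← Nat.card_congr (Equiv.ofBijective f hf), Nat.card_prod, Nat.card_zpowers, ho, Nat.card_eq_fintype_card,
      Fintype.card_bool, pow_succ]
  have hm'2 : m'.factorization 2 = 1 := by
    have hm'0 : m' ≠ 0 := by rcases hm' with rfl | rfl <;> omega
    obtain ⟨c, hc⟩ := h4
    obtain ⟨d, hd, hd'⟩ : ∃ d, m' = 2 * d ∧ ¬ 2 ∣ d := by
      rcases hdiff with e | e
      · exact ⟨2 * c - 1, by omega, by omega⟩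
      · exact ⟨2 * c + 1, by omega, by omega⟩
    rw [hd, Nat.factorization_mul two_ne_zero (by omega), Finsupp.add_apply,
      Nat.Prime.factorization_self Nat.prime_two, Nat.factorization_eq_zero_of_not_dvd hd']
  let S : Sylow 2 SL(2, F) := Sylow.ofCard S₀ (by
    rw [hcS, hcard, Nat.factorization_mul (by
        rcases hm' with rfl | rfl <;> exact mul_ne_zero (by omega) (by omega)) hm0,
      Nat.factorization_mul (by omega) (by rcases hm' with rfl | rfl <;> omega)]
    simp only [Finsupp.add_apply]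
    rw [Nat.factorization_eq_zero_of_not_dvd (n := q) (by omega), hm'2, ← hs, zero_add, add_comm])
  have hS : ∀ z, z ∈ S ↔ (z ∈ T ∨ z * x⁻¹ ∈ T) := fun z => Iff.rfl
  have hall : ∀ y : SL(2, F), (∃ k : ℕ, orderOf y = 2 ^ k) → ∃ g, g⁻¹ * y * g ∈ T := by
    intro y hy
    obtain ⟨k, hk⟩ := hy
    obtain ⟨R, hR⟩ := (IsPGroup.of_card (n := k) (by rw [Nat.card_zpowers, hk]) :
      IsPGroup 2 (Subgroup.zpowers y)).exists_le_sylow
    obtain ⟨g, hg⟩ := MulAction.exists_smul_eq SL(2, F) S R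
    have h1 : y ∈ g • S := hg ▸ hR (Subgroup.mem_zpowers y)
    rw [mem_smul_iff, hS] at h1
    rcases h1 with h1 | h1
    · exact ⟨g, h1⟩
    · set z := g⁻¹ * y * g * x⁻¹ with hz
      obtain ⟨i, hi⟩ := (Submonoid.mem_powers_iff _ _).1 ((isOfFinOrder_of_finite a').mem_powers_iff_mem_zpowers.2 h1)
      have hzz : (z * x) * (z * x) = -1 := by
        rw [show (z * x) * (z * x) = z * (x * z * x⁻¹) * (x * x) by group, hx, ← hi, ha', ← pow_mul, hconj',
          mul_inv_cancel, one_mul]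
      obtain ⟨P₁, hP₁⟩ := CharTwo.exists_conj_slJ hF hzz
      obtain ⟨P₂, hP₂⟩ := CharTwo.exists_conj_slJ hF hbb
      refine ⟨g * (P₁ * P₂⁻¹), ?_⟩
      have : (g * (P₁ * P₂⁻¹))⁻¹ * y * (g * (P₁ * P₂⁻¹)) = P₂ * (P₁⁻¹ * (g⁻¹ * y * g) * P₁) * P₂⁻¹ := by group
      rw [this, show g⁻¹ * y * g = z * x by rw [hz, inv_mul_cancel_right], ← hP₁]
      rw [show P₁⁻¹ * (P₁ * CharTwo.slJ * P₁⁻¹) * P₁ = CharTwo.slJ by group, hP₂]
      exact hbT
  rw [hgood]
  constructor
  · rintro ⟨Q, hQ⟩ ⟨t, ht⟩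
    have hst : 2 ^ s = m := by
      rw [hs, ht, Nat.Prime.factorization_pow Nat.prime_two, Finsupp.single_eq_same]
    have haa : a' = a := by rw [ha', hst, Nat.div_self (Nat.pos_of_ne_zero hm0), pow_one]
    refine not_redundant_of_unique (S := S) ⟨s, ho⟩ ((hS _).2 (Or.inl (Subgroup.mem_zpowers a'))) (fun R hR => ?_) Q hQ
    refine Sylow.ext (R.is_maximal' S.isPGroup' ?_).symm
    intro y hy
    have hTR : T ≤ (R : Subgroup SL(2, F)) := Subgroup.zpowers_le.2 hR
    have hidx : T.relIndex R = 2 := by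
      have h5 := Subgroup.index_mul_card (T.subgroupOf (R : Subgroup SL(2, F)))
      rw [Nat.card_congr (Subgroup.subgroupOfEquivOfLe hTR).toEquiv, Nat.card_zpowers, ho,
        R.card_eq_multiplicity, ← S.card_eq_multiplicity] at h5
      rw [show Nat.card S = 2 ^ (s + 1) from hcS, pow_succ'] at h5
      exact Nat.eq_of_mul_eq_mul_right (by positivity) h5
    have hyn : y * a * y⁻¹ ∈ T := by
      haveI := Subgroup.normal_of_index_eq_two (H := T.subgroupOf (R : Subgroup SL(2, F))) hidx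
      have haT : a ∈ T := by
        have h13 := Subgroup.mem_zpowers a'
        nth_rewrite 2 [haa] at h13
        exact h13
      have := Subgroup.Normal.conj_mem (H := T.subgroupOf (R : Subgroup SL(2, F))) inferInstance
        ⟨a, hTR haT⟩ (Subgroup.mem_subgroupOf.2 haT) ⟨y, hy⟩
      exact Subgroup.mem_subgroupOf.1 this
    have htr : (a : Matrix (Fin 2) (Fin 2) F).trace ^ 2 ≠ 4 := by
      intro htr
      obtain ⟨r, hr⟩ := CharP.exists F
      haveI := Fact.mk (CharP.char_is_prime F r)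
      obtain ⟨c, hc1, hc2⟩ : ∃ c : F, c * c = 1 ∧ (a : Matrix (Fin 2) (Fin 2) F).trace = 2 * c :=
        ⟨(a : Matrix (Fin 2) (Fin 2) F).trace / 2, by field_simp; linear_combination htr, by field_simp⟩
      have hN : ((a : Matrix (Fin 2) (Fin 2) F) - c • 1) * ((a : Matrix (Fin 2) (Fin 2) F) - c • 1) = 0 := by
        rw [sub_mul, mul_sub, mul_sub, Linear.Classes.cayley_hamilton, hc2, Matrix.smul_mul, one_mul,
          Matrix.mul_smul, mul_one, Matrix.mul_smul, mul_one, smul_smul, hc1, one_smul, two_mul, add_smul]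
        abel
      have hN2 : ((a : Matrix (Fin 2) (Fin 2) F) - c • 1) ^ r = 0 := by
        obtain ⟨i, hi⟩ := Nat.exists_eq_add_of_le (Fact.out : r.Prime).two_le
        rw [hi, pow_add, pow_two, hN, zero_mul]
      rw [sub_pow_char_of_commute r ((Commute.one_right _).smul_right c), smul_pow, one_pow, sub_eq_zero] at hN2
      have hcr : (c ^ r) * (c ^ r) = 1 := by rw [← mul_pow, hc1, one_pow]
      have h6 : a ^ (2 * r) = 1 := by
        apply Subtype.ext
        rw [Matrix.SpecialLinearGroup.coe_pow, two_mul, pow_add, hN2, Matrix.smul_mul, one_mul, smul_smul, hcr, one_smul]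
        rfl
      have h7 := ha ▸ orderOf_dvd_of_pow_eq_one h6
      have hr2 : ¬ 2 ∣ r := by
        intro h
        have := (Nat.prime_dvd_prime_iff_eq Nat.prime_two (Fact.out : r.Prime)).1 h
        subst this
        exact h2 (CharP.cast_eq_zero F 2)
      have h8 : 4 ∣ 2 * r := h4.trans h7
      omega
    obtain ⟨i, hi⟩ := Subgroup.mem_zpowers_iff.1 hyn
    have hcent : Subgroup.centralizer ({a} : Set SL(2, F)) = T := by
      refine (Subgroup.eq_of_le_of_card_ge ?_ ?_).symm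
      · refine Subgroup.zpowers_le.2 (Subgroup.mem_centralizer_singleton_iff.2 ?_)
        rw [haa]
      · rw [Nat.card_zpowers, ho, hst]
        have hle : T ≤ Subgroup.centralizer ({a} : Set SL(2, F)) :=
          Subgroup.zpowers_le.2 (Subgroup.mem_centralizer_singleton_iff.2 (by rw [haa]))
        have hdvd := Subgroup.card_dvd_of_le hle
        rw [Nat.card_zpowers, ho, hst] at hdvd
        rcases Spec.Two.card_torus a htr with ⟨-, hc⟩ | ⟨-, hc⟩ <;> rw [hc] at hdvd ⊢
        all_goals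
          have h44 := h4.trans hdvd
          omega
    have hyc : y * a * y⁻¹ = a ∨ y * a * y⁻¹ = a⁻¹ := by
      refine Spec.Two.eq_or_eq_inv h2 a _ htr ?_ ?_
      · rw [← hi, haa]; exact ((Commute.refl a).zpow_left i).eq
      · rw [Matrix.SpecialLinearGroup.coe_mul, Matrix.trace_mul_comm, ← Matrix.SpecialLinearGroup.coe_mul, inv_mul_cancel_left]
    rw [show (y ∈ (S : Subgroup SL(2, F))) ↔ _ from hS y]
    rcases hyc with h | h
    · left
      rw [← hcent, Subgroup.mem_centralizer_singleton_iff]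
      exact mul_inv_eq_iff_eq_mul.1 h
    · right
      rw [← hcent, Subgroup.mem_centralizer_singleton_iff]
      have h9 : x⁻¹ * a * x = a⁻¹ := by
        have := congrArg (fun z => x⁻¹ * z * x) hconj
        simp [mul_assoc] at this
        rw [← inv_inj, inv_inv, mul_inv_rev, mul_inv_rev, inv_inv, ← mul_assoc]
        simpa [mul_assoc] using this.symm
      calc y * x⁻¹ * a = y * (x⁻¹ * a * x) * x⁻¹ := by group
        _ = (y * a * y⁻¹)⁻¹ * (y * x⁻¹) := by rw [h9]; group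
        _ = a * (y * x⁻¹) := by rw [h, inv_inv]
  · intro hnp
    refine ⟨S, fun y hy => ?_⟩
    obtain ⟨g, hg⟩ := hall y hy
    have hne : a • S ≠ S := by
      intro hfix
      have hxS : x ∈ a • S := by rw [hfix]; exact (hS x).2 (Or.inr (by rw [mul_inv_cancel]; exact T.one_mem))
      rw [mem_smul_iff, hS] at hxS
      have h10 : a⁻¹ * x * a = (a ^ 2)⁻¹ * x := by
        have h11 : x * a = a⁻¹ * x := mul_inv_eq_iff_eq_mul.1 hconj
        rw [mul_assoc, h11, pow_two, mul_inv_rev, mul_assoc]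
      rw [h10] at hxS
      have ha2 : a ^ 2 ∈ T := by
        rcases hxS with h | h
        · exfalso
          obtain ⟨i, hi⟩ := Subgroup.mem_zpowers_iff.1 h
          apply hxnT
          have hxa : x ∈ Subgroup.zpowers a := by
            rw [show x = a ^ 2 * a' ^ i by rw [hi, mul_inv_cancel_left]]
            exact mul_mem (Subgroup.pow_mem _ (Subgroup.mem_zpowers a) 2)
              (zpow_mem (ha' ▸ Subgroup.pow_mem _ (Subgroup.mem_zpowers a) _) i)
          obtain ⟨l, hl⟩ := Subgroup.mem_zpowers_iff.1 hxa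
          exfalso
          have hcm : x * a * x⁻¹ = a := by rw [← hl, ((Commute.refl a).zpow_left l).eq, mul_inv_cancel_right]
          have h5 : a ^ 2 = 1 := by rw [pow_two, ← eq_inv_iff_mul_eq_one]; exact hcm.symm.trans hconj
          have := Nat.le_of_dvd two_pos (ha ▸ orderOf_dvd_of_pow_eq_one h5)
          have := Nat.le_of_dvd (Nat.pos_of_ne_zero hm0) h4
          omega
        · rw [mul_inv_cancel_right] at h
          exact T.inv_mem_iff.1 h
      obtain ⟨i, hi⟩ := Subgroup.mem_zpowers_iff.1 ha2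
      have h12 : a ^ (2 * 2 ^ s) = 1 := by
        rw [pow_mul, ← hi, ← zpow_natCast, ← zpow_mul, mul_comm, zpow_mul, zpow_natCast, ← ho, pow_orderOf_eq_one, one_zpow]
      rw [← pow_succ'] at h12
      obtain ⟨t, -, ht⟩ := (Nat.dvd_prime_pow Nat.prime_two).1 (ha ▸ orderOf_dvd_of_pow_eq_one h12)
      exact hnp ⟨t, ht⟩
    have hboth : y ∈ g • S ∧ y ∈ g • (a • S) := by
      refine ⟨(mem_smul_iff _ _ _).2 ((hS _).2 (Or.inl hg)), (mem_smul_iff _ _ _).2 ((mem_smul_iff _ _ _).2 ?_)⟩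
      refine (hS _).2 (Or.inl ?_)
      obtain ⟨i, hi⟩ := Subgroup.mem_zpowers_iff.1 hg
      rw [← hi, ha', mul_assoc, (((Commute.refl a).pow_left _).zpow_left i).eq, inv_mul_cancel_left]
      exact Subgroup.zpow_mem _ (Subgroup.mem_zpowers _) i
    by_cases h : g • S = S
    · exact ⟨g • (a • S), fun h' => hne (by
        have := congrArg (g⁻¹ • ·) (h'.trans h.symm)
        simpa only [inv_smul_smul] using this), hboth.2⟩
    · exact ⟨g • S, h, hboth.1⟩

theorem sl_two_redundant_iff (p : ℕ) [Fact p.Prime] :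
    (∃ Q : Sylow p SL(2, F), IsRedundant Q) ↔ Good p (Fintype.card F) := by
  classical
  obtain ⟨r, hr⟩ := CharP.exists F
  haveI := Fact.mk (CharP.char_is_prime F r)
  obtain ⟨e, -, he⟩ := FiniteField.card F r
  by_cases hpq : p ∣ Fintype.card F
  · have hpr : p = r := (Nat.prime_dvd_prime_iff_eq Fact.out Fact.out).1
      ((Fact.out : p.Prime).dvd_of_dvd_pow (he ▸ hpq))
    subst hpr
    refine iff_of_false (fun ⟨Q, hQ⟩ => not_redundant_defining p Q hQ) ?_
    rintro ⟨h2, -, h3, -⟩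
    exact h3 ⟨e, by rw [he, h2]⟩
  · by_cases hp2 : p = 2
    · subst hp2
      exact two_case (Nat.not_even_iff_odd.1 fun h => hpq h.two_dvd)
    · exact iff_of_false (fun ⟨Q, hQ⟩ => not_redundant_cyclic (Linear.isCyclic_sylow_SL_two p hp2 hpq) Q hQ)
        (fun h => hp2 h.1)

/-- Central quotients do not affect redundancy. -/
theorem redundant_iff_of_central {G H : Type*} [Group G] [Finite G] [Group H] {p : ℕ} [Fact p.Prime]
    (f : G →* H) (hf : Function.Surjective f) (hker : f.ker ≤ Subgroup.center G) :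
    (∃ Q : Sylow p H, IsRedundant Q) ↔ ∃ Q : Sylow p G, IsRedundant Q := by
  haveI : Finite H := Finite.of_surjective f hf
  have hn : ∀ P : Sylow p G, ((P : Subgroup G).map f).comap f ≤ Subgroup.normalizer ((P : Subgroup G) : Set G) := by
    intro P
    rw [Subgroup.comap_map_eq]
    refine sup_le Subgroup.le_normalizer (hker.trans fun z hz => ?_)
    rw [Subgroup.mem_normalizer_iff]
    intro g
    rw [show z * g * z⁻¹ = g by rw [← Subgroup.mem_center_iff.1 hz g, mul_inv_cancel_right]]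
  have hmem : ∀ (P : Sylow p G) (g : G), (∃ k : ℕ, orderOf g = p ^ k) → f g ∈ P.mapSurjective hf → g ∈ P := by
    intro P g ⟨k, hk⟩ hg
    have hgn : g ∈ Subgroup.normalizer ((P : Subgroup G) : Set G) := hn P hg
    have hg' : IsPGroup p (Subgroup.zpowers g) := IsPGroup.of_card (n := k) (by rw [Nat.card_zpowers, hk])
    have h1 : IsPGroup p ((P : Subgroup G) ⊔ Subgroup.zpowers g : Subgroup G) :=
      IsPGroup.to_sup_of_normal_left' P.isPGroup' hg' (Subgroup.zpowers_le.2 hgn)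
    exact (P.is_maximal' h1 le_sup_left).le (Subgroup.mem_sup_right (Subgroup.mem_zpowers g))
  have hinj : Function.Injective fun P : Sylow p G => P.mapSurjective hf := by
    intro P R h
    refine Sylow.ext (R.is_maximal' ?_ ?_)
    · exact P.isPGroup'
    · intro g hg
      obtain ⟨k, hk⟩ := R.isPGroup' ⟨g, hg⟩
      obtain ⟨i, -, hi⟩ := (Nat.dvd_prime_pow Fact.out).1 (orderOf_dvd_of_pow_eq_one (congrArg Subtype.val hk : g ^ p ^ k = 1))
      refine hmem P g ⟨i, hi⟩ ?_
      simp only at h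
      rw [h]
      exact ⟨g, hg, rfl⟩
  have hpel : ∀ (P : Sylow p G) (g : G), g ∈ P → ∃ k : ℕ, orderOf g = p ^ k := fun P g hg => by
    obtain ⟨k, hk⟩ := P.isPGroup' ⟨g, hg⟩
    obtain ⟨i, -, hi⟩ := (Nat.dvd_prime_pow Fact.out).1 (orderOf_dvd_of_pow_eq_one (congrArg Subtype.val hk : g ^ p ^ k = 1))
    exact ⟨i, hi⟩
  constructor
  · rintro ⟨Q', hQ'⟩
    obtain ⟨Q, rfl⟩ := Sylow.mapSurjective_surjective hf p Q'
    refine ⟨Q, fun x ⟨k, hk⟩ => ?_⟩
    obtain ⟨i, -, hi⟩ := (Nat.dvd_prime_pow Fact.out).1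
      (orderOf_dvd_of_pow_eq_one (n := p ^ k) (by rw [← map_pow, ← hk, pow_orderOf_eq_one, map_one] : f x ^ p ^ k = 1))
    obtain ⟨P', hne, hP'⟩ := hQ' (f x) ⟨i, hi⟩
    obtain ⟨P, rfl⟩ := Sylow.mapSurjective_surjective hf p P'
    exact ⟨P, fun h => hne (by rw [h]), hmem P x ⟨k, hk⟩ hP'⟩
  · rintro ⟨Q, hQ⟩
    refine ⟨Q.mapSurjective hf, fun y ⟨k, hk⟩ => ?_⟩
    obtain ⟨R', hR'⟩ := (IsPGroup.of_card (n := k) (by rw [Nat.card_zpowers, hk]) :
      IsPGroup p (Subgroup.zpowers y)).exists_le_sylow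
    obtain ⟨R, rfl⟩ := Sylow.mapSurjective_surjective hf p R'
    obtain ⟨g, hg, rfl⟩ := hR' (Subgroup.mem_zpowers y)
    obtain ⟨P, hne, hP⟩ := hQ g (hpel R g hg)
    exact ⟨P.mapSurjective hf, fun h => hne (hinj h), ⟨g, hP, rfl⟩⟩

end Cfsg.Agent.Redundant
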